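import Groth.Agent.H25TateConj.Subgroup
import Groth.Agent.H25Hat.Quotient
import Groth.Agent.H25AbCube.KerFinite

/-!
# Isogenies of prime power degree from Galois stable groups of torsion points
-/

set_option autoImplicit false
set_option linter.style.haveILetI false
set_option linter.unusedSectionVars false
set_option backward.isDefEq.respectTransparency false
set_option synthInstance.maxHeartbeats 400000
set_option maxHeartbeats 1000000
universe u

open CategoryTheory CategoryTheory.Limits MonoidalCategory CartesianMonoidalCategory MonObj GrpObj AlgebraicGeometry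
open Groth.Agent Groth.Agent.H25AbCube Groth.Agent.H25Chow

noncomputable section

namespace Groth.Agent.H25TateConj

variable {k : Type u} [Field k] {Ω : Type u} [Field Ω] [Algebra k Ω] [IsAlgClosure k Ω]
  {X : Over (Spec (CommRingCat.of k))} [GrpObj X] [IsCommMonObj X] [IsProper X.hom] [GeometricallyIntegral X.hom]

/-- The quotient by a Galois stable group of points killed by a positive integer. -/
theorem exists_isogeny {n : ℕ} (hn : 0 < n) (G : Subgroup (SGA7.pt Ω ⟶ X))
    (hG : ∀ a ∈ G, a ^ n = 1) (hGal : ∀ (σ : Ω ≃ₐ[k] Ω), ∀ a ∈ G, SGA7.galAct σ a ∈ G) :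
    ∃ (Y : Over (Spec (CommRingCat.of k))) (_ : GrpObj Y) (_ : IsCommMonObj Y) (_ : IsProper Y.hom)
      (_ : GeometricallyIntegral Y.hom) (q : X ⟶ Y) (v : Y ⟶ X), IsMonHom q ∧ IsMonHom v ∧
      q ≫ v = (𝟙 X) ^ n ∧ v ≫ q = (𝟙 Y) ^ n ∧ ∀ a : SGA7.pt Ω ⟶ X, a ≫ q = 1 ↔ a ∈ G := by
  obtain ⟨K, gK, j, hj, hjc, hKf, hpt, hpow⟩ := exists_subgroup hn G hG hGal
  haveI := hj; haveI := hjc; haveI := hKf
  haveI : IsIntegral X.left := GeometricallyIntegral.isIntegral_of_subsingleton X.hom
  obtain ⟨Y, gY, q, hq, hYt, hYc, hqf, hqs, hqp, hker⟩ :=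
    H19Quot.exists_quotientGroup j (H19Quot.AbelianCat.normal_of_comm j)
  haveI := hq; haveI := hYt; haveI := hYc; haveI := hqf; haveI := hqs; haveI := hqp
  haveI : IsSeparated Y.hom := H19Grp.AffineQuotient.isSeparated_of_grp Y
  haveI : IsProper Y.hom := by
    haveI : UniversallyClosed (q.left ≫ Y.hom) := by rw [Over.w q]; infer_instance
    haveI : UniversallyClosed Y.hom := UniversallyClosed.of_comp_surjective q.left Y.hom
    exact {}
  haveI : IsProper q.left := by
    haveI : IsProper (q.left ≫ Y.hom) := by rw [Over.w q]; infer_instance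
    exact IsProper.of_comp q.left Y.hom
  haveI : IsReduced Y.left := H13Desc.isReduced_of_flat_surjective q.left
  haveI : GeometricallyReduced (q.left ≫ Y.hom) := by rw [Over.w q]; infer_instance
  haveI : GeometricallyReduced Y.hom := H19Grp.geometricallyReduced_of_surjective q.left Y.hom
  haveI : ConnectedSpace ↥Y.left := q.left.surjective.connectedSpace q.left.continuous
  haveI : GeometricallyIntegral Y.hom := H25AbCube.geometricallyIntegral_of_connected Y
  haveI : IsCommMonObj Y := isCommMonObj_of_av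
  haveI : IsMonHom ((𝟙 X) ^ n : X ⟶ X) := isMonHom_pow n
  obtain ⟨v, hv, hfac, -⟩ := H19Grp.exists_monHom_desc q hker ((𝟙 X) ^ n : X ⟶ X) (by
    rw [← Hom.one_def, MonObj.comp_pow, Category.comp_id]
    have h := hpow K (𝟙 K)
    rwa [Category.id_comp] at h)
  haveI : QuasiCompact q.left := inferInstance
  haveI : Epi q := H19Grp.epi_over_of_fpqc q
  refine ⟨Y, gY, inferInstance, inferInstance, inferInstance, q, v, hq, hv, hfac, (cancel_epi q).1 ?_, fun a => ?_⟩
  · rw [← Category.assoc, hfac, MonObj.pow_comp, Category.id_comp, MonObj.comp_pow, Category.comp_id]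
  · rw [← hpt a]
    refine ⟨fun ha => H19Grp.kernel_lift hker a ha, fun ⟨z, hz⟩ => ?_⟩
    rw [← hz, Category.assoc, H19Grp.kernel_comp_eq_one hker, MonObj.comp_one]

/-- The image of the Tate module of the quotient. -/
theorem range_tateMap {Y : Over (Spec (CommRingCat.of k))} [GrpObj Y] [IsCommMonObj Y] {l : ℕ} [Fact l.Prime]
    (q : X ⟶ Y) [IsMonHom q] (v : Y ⟶ X) [IsMonHom v] (n : ℕ)
    (h1 : q ≫ v = (𝟙 X) ^ (l ^ n)) (h2 : v ≫ q = (𝟙 Y) ^ (l ^ n)) (z : AbDual.TateMod X l (SGA7.pt Ω)) :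
    z ∈ LinearMap.range (AbDual.tateMapₗ (l := l) (T := SGA7.pt Ω) v) ↔
      (AbDual.TateMod.component X l (SGA7.pt Ω) n z).toMul ≫ q = 1 := by
  constructor
  · rintro ⟨x, rfl⟩
    show (((x : ℕ → Additive (SGA7.pt Ω ⟶ Y)) n).toMul ≫ v) ≫ q = 1
    rw [Category.assoc, h2, MonObj.comp_pow, Category.comp_id, ← toMul_nsmul, x.torsion n]
    rfl
  · intro hz
    let Q : Additive (SGA7.pt Ω ⟶ X) →+ Additive (SGA7.pt Ω ⟶ Y) :=
      AddMonoidHom.mk' (fun a => Additive.ofMul (a.toMul ≫ q)) fun a b => congrArg Additive.ofMul (MonObj.mul_comp _ _ q)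
    have hsh : ∀ j m, l ^ j • (z : ℕ → Additive (SGA7.pt Ω ⟶ X)) (m + j) = (z : ℕ → Additive (SGA7.pt Ω ⟶ X)) m :=
      fun j => by
        induction j with
        | zero => simp
        | succ j ih => intro m; rw [pow_succ, mul_smul, ← _root_.add_assoc, z.compat, ih]
    refine ⟨⟨fun m => Q ((z : ℕ → Additive (SGA7.pt Ω ⟶ X)) (m + n)), fun m => ?_, fun m => ?_⟩,
      AbDual.TateMod.ext fun m => ?_⟩
    · rw [← map_nsmul, show m + n = n + m from _root_.add_comm m n, hsh]
      exact congrArg Additive.ofMul hz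
    · rw [← map_nsmul, show m + 1 + n = m + n + 1 by omega, z.compat]
    · show Additive.ofMul ((((z : ℕ → Additive (SGA7.pt Ω ⟶ X)) (m + n)).toMul ≫ q) ≫ v) = _
      rw [Category.assoc, h1, MonObj.comp_pow, Category.comp_id, ← toMul_nsmul, hsh]
      rfl

end Groth.Agent.H25TateConj
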