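import Groth.Agent.H25AbCube.EndAlgebra
import Groth.Agent.H23CSA.SepBaseChange
import Groth.Prelude.Def_EndTate

/-!
# The span of the endomorphisms in the rational Tate module
-/

set_option autoImplicit false
set_option linter.style.haveILetI false
set_option linter.unusedSectionVars false
set_option backward.isDefEq.respectTransparency false
set_option synthInstance.maxHeartbeats 400000
set_option maxHeartbeats 1000000
universe u

open CategoryTheory CategoryTheory.Limits MonoidalCategory CartesianMonoidalCategory MonObj GrpObj AlgebraicGeometry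
open scoped TensorProduct
open Groth.Agent Groth.Agent.H25AbCube

noncomputable section

namespace Groth.Agent.H25TateConj

variable {k : Type u} [Field k] (Ω : Type u) [Field Ω] [Algebra k Ω] (l : ℕ) [Fact l.Prime]
  (X : Over (Spec (CommRingCat.of k))) [GrpObj X] [IsCommMonObj X] [IsProper X.hom] [GeometricallyIntegral X.hom]

/-- The endomorphisms of the rational Tate module coming from endomorphisms of the variety. -/
def ratEnds : Set (Module.End ℚ_[l] (ℚ_[l] ⊗[ℤ_[l]] AbDual.TateMod X l (SGA7.pt Ω))) :=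
  {ψ | ∃ (f : X ⟶ X) (_ : IsMonHom f), ψ = (AbDual.tateMapₗ (l := l) (T := SGA7.pt Ω) f).baseChange ℚ_[l]}

/-- The rational endomorphism algebra has reduced centre, hence separable. -/
theorem isSeparable_center : Algebra.IsSeparable ℚ (Subalgebra.center ℚ (EndAV.End0 X)) := by
  haveI : Module.Finite ℤ (EndAV.End X) := moduleFinite_hom
  haveI : Module.Finite ℚ (EndAV.End0 X) := Module.Finite.base_change ℤ ℚ (EndAV.End X)
  haveI : IsReduced (Subalgebra.center ℚ (EndAV.End0 X)) := by
    refine isReduced_iff_pow_one_lt _ one_lt_two |>.2 fun z hz => ?_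
    obtain ⟨y, hy⟩ := end0_regular (z : EndAV.End0 X)
    refine Subtype.ext ?_
    have hc := (Subalgebra.mem_center_iff.1 z.2) y
    rw [_root_.mul_assoc, hc, ← _root_.mul_assoc, ← sq, show ((z : EndAV.End0 X)) ^ 2 = 0 from congrArg Subtype.val hz,
      zero_mul] at hy
    exact hy.symm
  refine ⟨fun z => ?_⟩
  exact PerfectField.separable_iff_squarefree.2
    ((minpoly.isRadical ℚ z).squarefree (minpoly.ne_zero (Algebra.IsIntegral.isIntegral z)))

/-- The span of the endomorphisms is a semisimple algebra. -/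
theorem exists_semisimple :
    ∃ R : Subalgebra ℚ_[l] (Module.End ℚ_[l] (ℚ_[l] ⊗[ℤ_[l]] AbDual.TateMod X l (SGA7.pt Ω))),
      IsSemisimpleRing R ∧ Subalgebra.toSubmodule R = Submodule.span ℚ_[l] (ratEnds Ω l X) := by
  haveI : Module.Finite ℤ (EndAV.End X) := moduleFinite_hom
  haveI : Module.Finite ℚ (EndAV.End0 X) := Module.Finite.base_change ℤ ℚ (EndAV.End X)
  haveI := isSemisimpleRing_end0 (A := X)
  haveI := isSeparable_center X
  haveI : IsSemisimpleRing (ℚ_[l] ⊗[ℚ] EndAV.End0 X) :=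
    H23CSA.SepBaseChange.isSemisimpleRing_tensor ℚ ℚ_[l] (EndAV.End0 X)
  let E := Module.End ℚ_[l] (ℚ_[l] ⊗[ℤ_[l]] AbDual.TateMod X l (SGA7.pt Ω))
  let F : EndAV.End X →+* E :=
    (Module.End.baseChangeHom ℤ_[l] ℚ_[l] (AbDual.TateMod X l (SGA7.pt Ω))).toRingHom.comp
      (EndAV.End.tateRep l (SGA7.pt Ω))
  letI : Algebra ℚ E := ((algebraMap ℚ_[l] E).comp (algebraMap ℚ ℚ_[l])).toAlgebra'
    fun c x => Algebra.commutes _ x
  haveI : IsScalarTower ℚ ℚ_[l] E := IsScalarTower.of_algebraMap_eq' rfl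
  let F' : EndAV.End X →ₐ[ℤ] E := { F with
    commutes' := fun n => by
      show F (algebraMap ℤ (EndAV.End X) n) = _
      rw [Algebra.algebraMap_eq_smul_one, map_zsmul, map_one, Algebra.algebraMap_eq_smul_one] }
  let G : EndAV.End0 X →ₐ[ℚ] E :=
    Algebra.TensorProduct.lift (Algebra.ofId ℚ E) F' fun r x => Algebra.commutes r (F' x)
  let H : ℚ_[l] ⊗[ℚ] EndAV.End0 X →ₐ[ℚ_[l]] E :=
    Algebra.TensorProduct.lift (Algebra.ofId ℚ_[l] E) G fun r x => Algebra.commutes r (G x)
  have hG : ∀ φ : EndAV.End X, G (EndAV.toEnd0 φ) = F φ := fun φ => by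
    rw [EndAV.toEnd0_apply]
    show Algebra.TensorProduct.lift _ _ _ _ = _
    rw [Algebra.TensorProduct.lift_tmul, map_one, _root_.one_mul]
    rfl
  let φ : ℚ_[l] ⊗[ℚ] EndAV.End0 X →+* H.range := RingHomClass.toRingHom H.rangeRestrict
  have hs : IsSemisimpleRing H.range :=
    RingHom.isSemisimpleRing_of_surjective (R := ℚ_[l] ⊗[ℚ] EndAV.End0 X) (S := H.range) φ (by
      exact H.rangeRestrict_surjective)
  refine ⟨H.range, hs, le_antisymm ?_ (Submodule.span_le.2 ?_)⟩
  · rintro _ ⟨x, rfl⟩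
    induction x using TensorProduct.induction_on with
    | zero =>
      show H 0 ∈ _
      rw [map_zero]
      exact zero_mem _
    | tmul r y =>
      show H (r ⊗ₜ y) ∈ _
      obtain ⟨a, φ, -, rfl⟩ := exists_tmul_eq y
      have ey : (a ⊗ₜ[ℤ] φ : EndAV.End0 X) = a • EndAV.toEnd0 φ := by
        rw [EndAV.toEnd0_apply, TensorProduct.smul_tmul', smul_eq_mul, _root_.mul_one]
      rw [Algebra.TensorProduct.lift_tmul, ey, map_smul, hG, Algebra.ofId_apply, ← Algebra.smul_def,
        ← IsScalarTower.algebraMap_smul ℚ_[l] a]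
      refine Submodule.smul_mem _ _ (Submodule.smul_mem _ _ (Submodule.subset_span ⟨φ.toHom, inferInstance, ?_⟩))
      rfl
    | add x y hx hy =>
      show H (x + y) ∈ _
      rw [map_add]
      exact add_mem hx hy
  · rintro _ ⟨f, hf, rfl⟩
    refine ⟨1 ⊗ₜ EndAV.toEnd0 (EndAV.End.of f), ?_⟩
    show H _ = _
    rw [Algebra.TensorProduct.lift_tmul, map_one, _root_.one_mul, hG]
    rfl

end Groth.Agent.H25TateConj
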