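import Mathlib

/-!
# A limit of endomorphisms of a finite free module over the p-adic integers
-/

set_option autoImplicit false
set_option linter.style.haveILetI false
set_option maxHeartbeats 1000000

open scoped Topology
open Filter

namespace Groth.Agent.H25TateConj

variable {l : ℕ} [Fact l.Prime]

theorem tendsto_pow_smul {ι : Type*} [Fintype ι] (φ : ℕ → ℕ) (hφ : Tendsto φ atTop atTop) (y : ℕ → ι → ℤ_[l]) :
    Tendsto (fun i => l ^ φ i • y i) atTop (𝓝 0) := by
  refine tendsto_pi_nhds.2 fun j => ?_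
  refine squeeze_zero_norm (fun i => ?_) ((tendsto_pow_atTop_nhds_zero_of_lt_one (by positivity)
    (inv_lt_one_of_one_lt₀ (by exact_mod_cast (Fact.out : l.Prime).one_lt : (1 : ℝ) < l))).comp hφ)
  rw [Pi.smul_apply, nsmul_eq_mul, Nat.cast_pow, norm_mul, norm_pow, PadicInt.norm_p]
  exact mul_le_of_le_one_right (by positivity) (PadicInt.norm_le_one _)

theorem isClosed_submodule {ι : Type*} [Fintype ι] (S : Submodule ℤ_[l] (ι → ℤ_[l])) :
    IsClosed (S : Set (ι → ℤ_[l])) := by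
  obtain ⟨m, g, hg⟩ := Submodule.fg_iff_exists_fin_generating_family.1 (IsNoetherian.noetherian S)
  rw [← hg, ← Fintype.range_linearCombination ℤ_[l] g]
  exact (isCompact_range (by
    show Continuous fun c : Fin m → ℤ_[l] => Fintype.linearCombination ℤ_[l] g c
    simp only [Fintype.linearCombination_apply]
    fun_prop)).isClosed

/-- A sequence of endomorphisms squeezing a submodule has a limit with the same squeeze. -/
theorem exists_limit {T : Type*} [AddCommGroup T] [Module ℤ_[l] T] [Module.Free ℤ_[l] T] [Module.Finite ℤ_[l] T]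
    (E : Submodule ℤ_[l] (Module.End ℤ_[l] T)) (L : Submodule ℤ_[l] T) (c : ℕ) (e : ℕ → Module.End ℤ_[l] T)
    (he : ∀ n, e n ∈ E) (h1 : ∀ n z, ∃ a ∈ L, ∃ y, e n z = a + l ^ n • y)
    (h2 : ∀ n, ∀ z ∈ L, ∃ x, e n x = l ^ c • z) :
    ∃ f ∈ E, (∀ z, f z ∈ L) ∧ ∀ z ∈ L, ∃ x, f x = l ^ c • z := by
  classical
  let b := Module.Free.chooseBasis ℤ_[l] T
  let ι := Module.Free.ChooseBasisIndex ℤ_[l] T
  -- coordinates of endomorphisms
  obtain ⟨v, M, hM⟩ : ∃ (v : T ≃ₗ[ℤ_[l]] (ι → ℤ_[l])) (M : Module.End ℤ_[l] T ≃ₗ[ℤ_[l]] (ι × ι → ℤ_[l])),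
      ∀ f z, v (f z) = fun i => ∑ j, M f (i, j) * v z j :=
    ⟨b.equivFun, (LinearMap.toMatrix b b).trans (LinearEquiv.curry ℤ_[l] ℤ_[l] ι ι).symm, fun f z => by
      funext i
      exact (congrFun (LinearMap.toMatrix_mulVec_repr b b f z) i).symm⟩
  have hcont : Continuous fun p : (ι × ι → ℤ_[l]) × (ι → ℤ_[l]) => fun i => ∑ j, p.1 (i, j) * p.2 j := by fun_prop
  have hev : ∀ (P : ℕ → ι × ι → ℤ_[l]) (P₀ : ι × ι → ℤ_[l]) (Q : ℕ → ι → ℤ_[l]) (Q₀ : ι → ℤ_[l]),
      Tendsto P atTop (𝓝 P₀) → Tendsto Q atTop (𝓝 Q₀) →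
        Tendsto (fun n => fun i => ∑ j, P n (i, j) * Q n j) atTop (𝓝 fun i => ∑ j, P₀ (i, j) * Q₀ j) :=
    fun P P₀ Q Q₀ hP hQ => (hcont.tendsto (P₀, Q₀)).comp (hP.prodMk_nhds hQ)
  haveI : CompactSpace (ι × ι → ℤ_[l]) := inferInstance
  obtain ⟨m, -, φ, hφ, hm⟩ := (isCompact_univ (X := ι × ι → ℤ_[l])).tendsto_subseq
    (x := fun n => M (e n)) fun _ => Set.mem_univ _
  have hφt : Tendsto φ atTop atTop := hφ.tendsto_atTop
  obtain ⟨f, rfl⟩ := M.surjective m
  have hfE : f ∈ E := by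
    have h : M f ∈ (E.map M.toLinearMap : Set (ι × ι → ℤ_[l])) :=
      (isClosed_submodule _).mem_of_tendsto hm (Eventually.of_forall fun i => ⟨_, he _, rfl⟩)
    obtain ⟨f', hf', h'⟩ := h
    exact M.injective h' ▸ hf'
  refine ⟨f, hfE, fun z => ?_, fun z hz => ?_⟩
  · choose a ha y hy using fun i => h1 (φ i) z
    have ht : Tendsto (fun i => v (e (φ i) z)) atTop (𝓝 (v (f z))) := by
      have h := hev (fun i => M (e (φ i))) (M f) (fun _ => v z) (v z) hm tendsto_const_nhds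
      rw [← hM f z] at h
      exact h.congr fun i => (hM _ _).symm
    have ht2 : Tendsto (fun i => v (a i)) atTop (𝓝 (v (f z))) := by
      have h := ht.sub (tendsto_pow_smul φ hφt fun i => v (y i))
      rw [sub_zero] at h
      refine h.congr fun i => ?_
      rw [hy, map_add, map_nsmul, add_sub_cancel_right]
    obtain ⟨w, hw, hw'⟩ : v (f z) ∈ (L.map v.toLinearMap : Set (ι → ℤ_[l])) :=
      (isClosed_submodule _).mem_of_tendsto ht2 (Eventually.of_forall fun i => ⟨_, ha i, rfl⟩)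
    exact v.injective hw' ▸ hw
  · choose x hx using fun i => h2 (φ i) z hz
    obtain ⟨q, -, ψ, hψ, hq⟩ := (isCompact_univ (X := ι → ℤ_[l])).tendsto_subseq
      (x := fun i => v (x i)) fun _ => Set.mem_univ _
    refine ⟨v.symm q, v.injective ?_⟩
    rw [hM, v.apply_symm_apply]
    have ht : Tendsto (fun i => v (e (φ (ψ i)) (x (ψ i)))) atTop (𝓝 (fun i => ∑ j, M f (i, j) * q j)) := by
      have h := hev (fun i => M (e (φ (ψ i)))) (M f) (fun i => v (x (ψ i))) q (hm.comp hψ.tendsto_atTop) hq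
      exact h.congr fun i => (hM _ _).symm
    simp only [hx] at ht
    exact tendsto_nhds_unique ht tendsto_const_nhds

end Groth.Agent.H25TateConj
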