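import Groth.Agent.H25TateConj.Isogeny
import Groth.Agent.H25TateConj.Limit
import Groth.Agent.H25Rig.GroupMaps
import Groth.Prelude.Def_EndTate

/-!
# Galois stable subspaces of the rational Tate module are images of endomorphisms
-/

set_option autoImplicit false
set_option linter.style.haveILetI false
set_option linter.unusedSectionVars false
set_option backward.isDefEq.respectTransparency false
set_option synthInstance.maxHeartbeats 400000
set_option maxHeartbeats 1000000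
universe u

open CategoryTheory CategoryTheory.Limits MonoidalCategory CartesianMonoidalCategory MonObj GrpObj AlgebraicGeometry
open scoped TensorProduct
open Groth.Agent Groth.Agent.H25AbCube Groth.Agent.H25Chow

noncomputable section

namespace Groth.Agent.H25TateConj

/-- Rational vectors have integral denominators. -/
theorem exists_pow_smul {l : ℕ} [Fact l.Prime] {T : Type*} [AddCommGroup T] [Module ℤ_[l] T]
    (x : ℚ_[l] ⊗[ℤ_[l]] T) : ∃ (m : ℕ) (z : T), (l : ℚ_[l]) ^ m • x = 1 ⊗ₜ z := by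
  induction x using TensorProduct.induction_on with
  | zero => exact ⟨0, 0, by rw [smul_zero, TensorProduct.tmul_zero]⟩
  | tmul q t =>
    obtain ⟨m, a, h⟩ : ∃ (m : ℕ) (a : ℤ_[l]), (l : ℚ_[l]) ^ m * q = (a : ℚ_[l]) := by
      obtain ⟨m, hm⟩ := pow_unbounded_of_one_lt ‖q‖ (by exact_mod_cast (Fact.out : l.Prime).one_lt : (1 : ℝ) < l)
      refine ⟨m, ⟨(l : ℚ_[l]) ^ m * q, ?_⟩, rfl⟩
      rw [norm_mul, norm_pow, Padic.norm_p, inv_pow,
        inv_mul_le_iff₀ (pow_pos (by exact_mod_cast (Fact.out : l.Prime).pos) m), _root_.mul_one]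
      exact hm.le
    refine ⟨m, a • t, ?_⟩
    rw [TensorProduct.smul_tmul', smul_eq_mul, h, ← TensorProduct.smul_tmul, Algebra.smul_def, _root_.mul_one]
    rfl
  | add x y hx hy =>
    obtain ⟨m, z, hz⟩ := hx
    obtain ⟨m', z', hz'⟩ := hy
    refine ⟨m + m', (l : ℤ_[l]) ^ m' • z + (l : ℤ_[l]) ^ m • z', ?_⟩
    have e : ∀ (j : ℕ) (w : T), ((1 : ℚ_[l]) ⊗ₜ[ℤ_[l]] ((l : ℤ_[l]) ^ j • w)) = (l : ℚ_[l]) ^ j • (1 ⊗ₜ w) := fun j w => by
      rw [← TensorProduct.smul_tmul, TensorProduct.smul_tmul', Algebra.smul_def, smul_eq_mul, map_pow, map_natCast]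
    rw [TensorProduct.tmul_add, smul_add, e, e, ← hz, ← hz', smul_smul, smul_smul, ← pow_add, ← pow_add,
      _root_.add_comm m' m]

variable {k : Type u} [Field k] {Ω : Type u} [Field Ω] [Algebra k Ω]

/-- An isomorphism of schemes gives an isomorphism of abelian varieties. -/
theorem exists_monHom_iso {Y Z : Over (Spec (CommRingCat.of k))} [GrpObj Y] [IsProper Y.hom]
    [GeometricallyIntegral Y.hom] [GrpObj Z] [IsProper Z.hom] [GeometricallyIntegral Z.hom] (φ : Y ≅ Z) :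
    ∃ (a : Y ⟶ Z) (b : Z ⟶ Y), IsMonHom a ∧ IsMonHom b ∧ a ≫ b = 𝟙 Y ∧ b ≫ a = 𝟙 Z := by
  let c : 𝟙_ (Over (Spec (CommRingCat.of k))) ⟶ Z := η[Y] ≫ φ.hom
  have ht : ∀ c' c'' : 𝟙_ (Over (Spec (CommRingCat.of k))) ⟶ Z, (𝟙 Z * (toUnit Z ≫ c')) ≫ (𝟙 Z * (toUnit Z ≫ c'')) =
      𝟙 Z * (toUnit Z ≫ c') * (toUnit Z ≫ c'') := fun c' c'' => by
    rw [MonObj.comp_mul, Category.comp_id, ← Category.assoc, toUnit_unique (_ ≫ toUnit Z) (toUnit Z)]
  let t : Z ≅ Z :=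
    { hom := 𝟙 Z * (toUnit Z ≫ c⁻¹)
      inv := 𝟙 Z * (toUnit Z ≫ c)
      hom_inv_id := by rw [ht, _root_.mul_assoc, ← MonObj.comp_mul, inv_mul_cancel, MonObj.comp_one, _root_.mul_one]
      inv_hom_id := by rw [ht, _root_.mul_assoc, ← MonObj.comp_mul, mul_inv_cancel, MonObj.comp_one, _root_.mul_one] }
  let ψ : Y ≅ Z := φ ≪≫ t
  have h1 : η[Y] ≫ ψ.hom = η[Z] := by
    show η[Y] ≫ φ.hom ≫ (𝟙 Z * (toUnit Z ≫ c⁻¹)) = _
    rw [← Category.assoc, MonObj.comp_mul, Category.comp_id, ← Category.assoc,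
      toUnit_unique ((η[Y] ≫ φ.hom) ≫ toUnit Z) (𝟙 _), Category.id_comp, mul_inv_cancel, Hom.one_def, toUnit_unit,
      Category.id_comp]
  have h2 : η[Z] ≫ ψ.inv = η[Y] := by rw [← h1, Category.assoc, Iso.hom_inv_id, Category.comp_id]
  exact ⟨ψ.hom, ψ.inv, H25Rig.isMonHom_of_one_hom _ h1, H25Rig.isMonHom_of_one_hom _ h2, ψ.hom_inv_id, ψ.inv_hom_id⟩

variable [IsAlgClosure k Ω] (l : ℕ) [Fact l.Prime] {X : Over (Spec (CommRingCat.of k))} [GrpObj X] [IsCommMonObj X]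
  [IsProper X.hom] [GeometricallyIntegral X.hom]

/-- The endomorphisms of the Tate module coming from endomorphisms of the variety. -/
def tateEnds (Ω : Type u) [Field Ω] [Algebra k Ω] (l : ℕ) [Fact l.Prime] (X : Over (Spec (CommRingCat.of k)))
    [GrpObj X] [IsCommMonObj X] : Set (Module.End ℤ_[l] (AbDual.TateMod X l (SGA7.pt Ω))) :=
  {e | ∃ (f : X ⟶ X) (_ : IsMonHom f), e = AbDual.tateMapₗ (l := l) (T := SGA7.pt Ω) f}

theorem component_pow_smul (x : AbDual.TateMod X l (SGA7.pt Ω)) (d n : ℕ) :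
    AbDual.TateMod.component X l (SGA7.pt Ω) n (l ^ d • x) =
      l ^ d • AbDual.TateMod.component X l (SGA7.pt Ω) n x := map_nsmul _ _ _

/-- A submodule stable under Galois is squeezed by endomorphisms. -/
theorem exists_squeeze
    (L : Submodule ℤ_[l] (AbDual.TateMod X l (SGA7.pt Ω)))
    (hFin : ∃ (J : Type u) (_ : Finite J) (F : J → Over (Spec (CommRingCat.of k))),
        ∀ (Y : Over (Spec (CommRingCat.of k))) [GrpObj Y] [IsCommMonObj Y] [IsProper Y.hom] [GeometricallyIntegral Y.hom]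
          (u : X ⟶ Y) [IsMonHom u] (v : Y ⟶ X) [IsMonHom v] (m : ℕ),
          u ≫ v = (𝟙 X) ^ (l ^ m) → v ≫ u = (𝟙 Y) ^ (l ^ m) →
          (∀ a : SGA7.pt Ω ⟶ X, a ≫ u = 1 ↔ ∃ z ∈ L, (AbDual.TateMod.component X l (SGA7.pt Ω) m z).toMul = a) →
          ∃ i, Nonempty (Y ≅ F i))
    (ρ : (Ω ≃ₐ[k] Ω) → Module.End ℤ_[l] (AbDual.TateMod X l (SGA7.pt Ω)))
    (hρ : ∀ (τ : Ω ≃ₐ[k] Ω) (z : AbDual.TateMod X l (SGA7.pt Ω)) (m : ℕ),
      (AbDual.TateMod.component X l (SGA7.pt Ω) m (ρ τ z)).toMul =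
        SGA7.galAct τ (AbDual.TateMod.component X l (SGA7.pt Ω) m z).toMul)
    (hL : ∀ τ, ∀ z ∈ L, ρ τ z ∈ L) :
    ∃ (c : ℕ) (e : ℕ → Module.End ℤ_[l] (AbDual.TateMod X l (SGA7.pt Ω))),
      (∀ n, e n ∈ Submodule.span ℤ_[l] (tateEnds Ω l X)) ∧
      (∀ n z, ∃ a ∈ L, ∃ y, e n z = a + l ^ n • y) ∧ ∀ n, ∀ z ∈ L, ∃ x, e n x = l ^ c • z := by
  let comp := AbDual.TateMod.component X l (SGA7.pt Ω)
  have hl : 0 < l := (Fact.out : l.Prime).pos
  let G : ℕ → Subgroup (SGA7.pt Ω ⟶ X) := fun n =>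
    (AddSubgroup.toSubgroup' (L.toAddSubgroup.map (comp n)))
  have hmem : ∀ n a, a ∈ G n ↔ ∃ z ∈ L, (comp n z).toMul = a := fun n a =>
    ⟨fun ⟨z, hz, h⟩ => ⟨z, hz, congrArg Additive.toMul h⟩, fun ⟨z, hz, h⟩ => ⟨z, hz, congrArg Additive.ofMul h⟩⟩
  have hkill : ∀ n, ∀ a ∈ G n, a ^ (l ^ n) = 1 := fun n a ha => by
    obtain ⟨z, -, rfl⟩ := (hmem n a).1 ha
    exact (toMul_nsmul (l ^ n) (comp n z)).symm.trans (congrArg Additive.toMul (z.torsion n))
  have hgal : ∀ n (σ : Ω ≃ₐ[k] Ω), ∀ a ∈ G n, SGA7.galAct σ a ∈ G n := fun n σ a ha => by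
    obtain ⟨z, hz, rfl⟩ := (hmem n a).1 ha
    exact (hmem n _).2 ⟨ρ σ z, hL σ z hz, hρ σ z n⟩
  choose Y gY cY pY iY q v hq hv h1 h2 hker using
    fun n => exists_isogeny (pow_pos hl n) (G n) (hkill n) (hgal n)
  -- the image of the quotient
  have hrange : ∀ n z, (z ∈ LinearMap.range
      (letI := gY n; letI := cY n; letI := hv n; AbDual.tateMapₗ (l := l) (T := SGA7.pt Ω) (v n))) ↔
      ∃ a ∈ L, ∃ y, z = a + l ^ n • y := fun n z => by
    letI := gY n; letI := cY n; letI := hv n; letI := hq n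
    rw [range_tateMap (q n) (v n) n (h1 n) (h2 n), hker, hmem]
    constructor
    · rintro ⟨a, ha, haz⟩
      have hd : comp n (z - a) = 0 := by
        rw [map_sub, sub_eq_zero]
        exact Additive.toMul.injective haz.symm
      let d : ℕ → Additive (SGA7.pt Ω ⟶ X) := fun m => comp m (z - a)
      have hsh : ∀ j m, l ^ j • d (m + j) = d m := fun j => by
        induction j with
        | zero => simp
        | succ j ih =>
          intro m
          rw [pow_succ, mul_smul, ← _root_.add_assoc, show l • d (m + j + 1) = d (m + j) from (z - a).compat _, ih]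
      let y : AbDual.TateMod X l (SGA7.pt Ω) := ⟨fun m => d (m + n), fun m => by
        show l ^ m • d (m + n) = 0
        rw [show m + n = n + m from _root_.add_comm m n, hsh]; exact hd, fun m => by
        show l • d (m + 1 + n) = d (m + n)
        rw [show m + 1 + n = m + n + 1 by omega]; exact (z - a).compat _⟩
      refine ⟨a, ha, y, ?_⟩
      rw [← sub_eq_iff_eq_add']
      refine AbDual.TateMod.ext fun m => Eq.symm ?_
      show comp m (l ^ n • y) = d m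
      rw [map_nsmul]
      exact hsh n m
    · rintro ⟨a, ha, y, rfl⟩
      refine ⟨a, ha, congrArg Additive.toMul ?_⟩
      show comp n a = comp n (a + l ^ n • y)
      rw [map_add, map_nsmul, show l ^ n • comp n y = 0 from y.torsion n, _root_.add_zero]
  obtain ⟨J, hJ, F, hF⟩ := hFin
  choose ι₀ hι using fun n => (letI := gY n; letI := cY n; letI := pY n; letI := iY n; letI := hv n; letI := hq n
    hF (Y n) (q n) (v n) n (h1 n) (h2 n) fun a => (hker n a).trans (hmem n a))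
  obtain ⟨i₀, hi₀⟩ := Finite.exists_infinite_fiber ι₀
  have hinf : (ι₀ ⁻¹' {i₀}).Infinite := Set.infinite_coe_iff.1 hi₀
  obtain ⟨c, hc⟩ := hinf.nonempty
  choose m hm hcm using fun n => hinf.exists_gt n
  refine ⟨c, ?_⟩
  suffices h : ∀ n, ∃ e ∈ Submodule.span ℤ_[l] (tateEnds Ω l X),
      (∀ z, ∃ a ∈ L, ∃ y, e z = a + l ^ n • y) ∧ ∀ z ∈ L, ∃ x, e x = l ^ c • z by
    choose e he1 he2 he3 using h
    exact ⟨e, he1, he2, he3⟩
  intro n
  letI := gY c; letI := cY c; letI := pY c; letI := iY c; letI := hv c; letI := hq c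
  letI := gY (m n); letI := cY (m n); letI := pY (m n); letI := iY (m n); letI := hv (m n); letI := hq (m n)
  obtain ⟨φ₀⟩ := hι c
  obtain ⟨φ₁⟩ := hι (m n)
  rw [show ι₀ c = i₀ from hc] at φ₀
  rw [show ι₀ (m n) = i₀ from hm n] at φ₁
  obtain ⟨a, b, ha, hb, hab, hba⟩ := exists_monHom_iso (φ₀ ≪≫ φ₁.symm)
  haveI := ha; haveI := hb
  refine ⟨AbDual.tateMapₗ (l := l) (T := SGA7.pt Ω) (q c ≫ a ≫ v (m n)),
    Submodule.subset_span ⟨_, inferInstance, rfl⟩, fun z => ?_, fun z hz => ?_⟩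
  · obtain ⟨a', ha', y, hy⟩ := (hrange (m n) _).1 ⟨AbDual.tateMapₗ (l := l) (T := SGA7.pt Ω) (q c ≫ a) z, rfl⟩
    refine ⟨a', ha', l ^ (m n - n) • y, ?_⟩
    rw [smul_smul, ← pow_add, show n + (m n - n) = m n by have := hcm n; omega, ← hy,
      ← tateMap_comp_apply (l := l) (q c ≫ a) (v (m n))]
    exact AbDual.TateMod.ext fun _ => congrArg Additive.ofMul (by simp only [Category.assoc])
  · obtain ⟨x, hx⟩ := (hrange (m n) z).2 ⟨z, hz, 0, by rw [smul_zero, _root_.add_zero]⟩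
    refine ⟨AbDual.tateMapₗ (l := l) (T := SGA7.pt Ω) (b ≫ v c) x, ?_⟩
    rw [← tateMap_comp_apply, ← hx, ← map_nsmul]
    refine AbDual.TateMod.ext fun j => ?_
    show Additive.ofMul (((x : ℕ → Additive (SGA7.pt Ω ⟶ Y (m n))) j).toMul ≫ (b ≫ v c) ≫ q c ≫ a ≫ v (m n)) =
      Additive.ofMul ((l ^ c • (x : ℕ → Additive (SGA7.pt Ω ⟶ Y (m n))) j).toMul ≫ v (m n))
    rw [Category.assoc, ← Category.assoc (v c) (q c), h2 c, MonObj.pow_comp, Category.id_comp, toMul_nsmul,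
      MonObj.pow_comp, MonObj.comp_pow, MonObj.comp_pow, ← Category.assoc b a, hba, Category.id_comp]

/-- Galois stable subspaces are images of rational combinations of endomorphisms. -/
theorem exists_range_eq_of
    (W : Submodule ℚ_[l] (ℚ_[l] ⊗[ℤ_[l]] AbDual.TateMod X l (SGA7.pt Ω)))
    (hFin : ∃ (J : Type u) (_ : Finite J) (F : J → Over (Spec (CommRingCat.of k))),
        ∀ (Y : Over (Spec (CommRingCat.of k))) [GrpObj Y] [IsCommMonObj Y] [IsProper Y.hom] [GeometricallyIntegral Y.hom]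
          (u : X ⟶ Y) [IsMonHom u] (v : Y ⟶ X) [IsMonHom v] (m : ℕ),
          u ≫ v = (𝟙 X) ^ (l ^ m) → v ≫ u = (𝟙 Y) ^ (l ^ m) →
          (∀ a : SGA7.pt Ω ⟶ X, a ≫ u = 1 ↔ ∃ z ∈
            (W.restrictScalars ℤ_[l]).comap (TensorProduct.mk ℤ_[l] ℚ_[l] (AbDual.TateMod X l (SGA7.pt Ω)) 1), (AbDual.TateMod.component X l (SGA7.pt Ω) m z).toMul = a) →
          ∃ i, Nonempty (Y ≅ F i))
    (ρ : (Ω ≃ₐ[k] Ω) → Module.End ℤ_[l] (AbDual.TateMod X l (SGA7.pt Ω)))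
    (hρ : ∀ (τ : Ω ≃ₐ[k] Ω) (z : AbDual.TateMod X l (SGA7.pt Ω)) (m : ℕ),
      (AbDual.TateMod.component X l (SGA7.pt Ω) m (ρ τ z)).toMul =
        SGA7.galAct τ (AbDual.TateMod.component X l (SGA7.pt Ω) m z).toMul)
    [Module.Free ℤ_[l] (AbDual.TateMod X l (SGA7.pt Ω))] [Module.Finite ℤ_[l] (AbDual.TateMod X l (SGA7.pt Ω))]
    (hW : ∀ τ : Ω ≃ₐ[k] Ω, W.map ((ρ τ).baseChange ℚ_[l]) ≤ W) :
    ∃ u ∈ Submodule.span ℚ_[l] {ψ : Module.End ℚ_[l] (ℚ_[l] ⊗[ℤ_[l]] AbDual.TateMod X l (SGA7.pt Ω)) |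
          ∃ (f : X ⟶ X) (_ : IsMonHom f), ψ = (AbDual.tateMapₗ (l := l) (T := SGA7.pt Ω) f).baseChange ℚ_[l]},
      LinearMap.range u = W := by
  let L : Submodule ℤ_[l] (AbDual.TateMod X l (SGA7.pt Ω)) :=
    (W.restrictScalars ℤ_[l]).comap (TensorProduct.mk ℤ_[l] ℚ_[l] (AbDual.TateMod X l (SGA7.pt Ω)) 1)
  obtain ⟨c, e, he, h1, h2⟩ := exists_squeeze l L hFin ρ hρ fun τ z hz => hW τ ⟨_, hz, rfl⟩
  obtain ⟨f, hf, hfL, hLf⟩ := exists_limit (Submodule.span ℤ_[l] (tateEnds Ω l X)) L c e he h1 h2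
  refine ⟨f.baseChange ℚ_[l], ?_, le_antisymm ?_ fun w hw => ?_⟩
  · refine Submodule.span_induction (p := fun g _ => g.baseChange ℚ_[l] ∈ Submodule.span ℚ_[l]
      {ψ : Module.End ℚ_[l] (ℚ_[l] ⊗[ℤ_[l]] AbDual.TateMod X l (SGA7.pt Ω)) |
        ∃ (f : X ⟶ X) (_ : IsMonHom f), ψ = (AbDual.tateMapₗ (l := l) (T := SGA7.pt Ω) f).baseChange ℚ_[l]}) ?_ ?_ ?_ ?_ hf
    · rintro _ ⟨g, hg, rfl⟩
      exact Submodule.subset_span ⟨g, hg, rfl⟩
    · rw [LinearMap.baseChange_zero]; exact zero_mem _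
    · intro g g' _ _ hg hg'; rw [LinearMap.baseChange_add]; exact add_mem hg hg'
    · intro r g _ hg
      rw [LinearMap.baseChange_smul, ← IsScalarTower.algebraMap_smul ℚ_[l] r]
      exact Submodule.smul_mem _ _ hg
  · rintro _ ⟨x, rfl⟩
    induction x using TensorProduct.induction_on with
    | zero => rw [map_zero]; exact zero_mem _
    | tmul r t =>
      rw [LinearMap.baseChange_tmul, ← _root_.mul_one r, ← smul_eq_mul, ← TensorProduct.smul_tmul']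
      exact W.smul_mem r (hfL t)
    | add x y hx hy => rw [map_add]; exact add_mem hx hy
  · obtain ⟨m, z, hz⟩ := exists_pow_smul w
    have hzL : z ∈ L := by
      show (1 : ℚ_[l]) ⊗ₜ z ∈ W
      exact hz ▸ W.smul_mem _ hw
    obtain ⟨x, hx⟩ := hLf z hzL
    have hl' : (l : ℚ_[l]) ≠ 0 := Nat.cast_ne_zero.2 (Fact.out : l.Prime).ne_zero
    refine ⟨((l : ℚ_[l]) ^ (m + c))⁻¹ • (1 ⊗ₜ x), ?_⟩
    rw [map_smul, LinearMap.baseChange_tmul, hx, ← Nat.cast_smul_eq_nsmul ℤ_[l], ← TensorProduct.smul_tmul,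
      Algebra.smul_def, _root_.mul_one, map_natCast, Nat.cast_pow, ← _root_.mul_one ((l : ℚ_[l]) ^ c),
      ← smul_eq_mul, ← TensorProduct.smul_tmul', ← hz, smul_smul, smul_smul]
    rw [show ((l : ℚ_[l]) ^ (m + c))⁻¹ * (l : ℚ_[l]) ^ c * (l : ℚ_[l]) ^ m = 1 by
      field_simp
      ring, one_smul]

/-- Galois stable subspaces are images, given finitely many isomorphism classes. -/
theorem exists_range_eq
    (hFin : ∃ (J : Type u) (_ : Finite J) (F : J → Over (Spec (CommRingCat.of k))),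
        ∀ (Y : Over (Spec (CommRingCat.of k))) [GrpObj Y] [IsCommMonObj Y] [IsProper Y.hom] [GeometricallyIntegral Y.hom]
          (u : X ⟶ Y) [IsMonHom u] (v : Y ⟶ X) [IsMonHom v] (m : ℕ),
          u ≫ v = (𝟙 X) ^ (l ^ m) → v ≫ u = (𝟙 Y) ^ (l ^ m) → ∃ i, Nonempty (Y ≅ F i))
    (ρ : (Ω ≃ₐ[k] Ω) → Module.End ℤ_[l] (AbDual.TateMod X l (SGA7.pt Ω)))
    (hρ : ∀ (τ : Ω ≃ₐ[k] Ω) (z : AbDual.TateMod X l (SGA7.pt Ω)) (m : ℕ),
      (AbDual.TateMod.component X l (SGA7.pt Ω) m (ρ τ z)).toMul =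
        SGA7.galAct τ (AbDual.TateMod.component X l (SGA7.pt Ω) m z).toMul)
    [Module.Free ℤ_[l] (AbDual.TateMod X l (SGA7.pt Ω))] [Module.Finite ℤ_[l] (AbDual.TateMod X l (SGA7.pt Ω))]
    (W : Submodule ℚ_[l] (ℚ_[l] ⊗[ℤ_[l]] AbDual.TateMod X l (SGA7.pt Ω)))
    (hW : ∀ τ : Ω ≃ₐ[k] Ω, W.map ((ρ τ).baseChange ℚ_[l]) ≤ W) :
    ∃ u ∈ Submodule.span ℚ_[l] {ψ : Module.End ℚ_[l] (ℚ_[l] ⊗[ℤ_[l]] AbDual.TateMod X l (SGA7.pt Ω)) |
          ∃ (f : X ⟶ X) (_ : IsMonHom f), ψ = (AbDual.tateMapₗ (l := l) (T := SGA7.pt Ω) f).baseChange ℚ_[l]},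
      LinearMap.range u = W := by
  obtain ⟨J, hJ, F, hF⟩ := hFin
  exact exists_range_eq_of l W ⟨J, hJ, F, fun Y _ _ _ _ u _ v _ m h1 h2 _ => hF Y u v m h1 h2⟩ ρ hρ hW

end Groth.Agent.H25TateConj
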