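import Groth.Agent.H25TateConj.Algebra
import Groth.Agent.H25TateConj.Range
import Groth.Agent.H25Rig.GroupMaps

/-!
# Semisimplicity of the Galois action and the commutant theorem
-/

set_option autoImplicit false
set_option linter.style.haveILetI false
set_option linter.unusedSectionVars false
set_option backward.isDefEq.respectTransparency false
set_option synthInstance.maxHeartbeats 400000
set_option maxHeartbeats 1000000
universe u

open CategoryTheory CategoryTheory.Limits MonoidalCategory CartesianMonoidalCategory MonObj GrpObj AlgebraicGeometry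
open scoped TensorProduct
open Groth.Agent Groth.Agent.H25AbCube

noncomputable section

namespace Groth.Agent.H25TateConj

variable {k : Type u} [Field k] {Ω : Type u} [Field Ω] [Algebra k Ω] {l : ℕ} [Fact l.Prime]

section gal

variable (Ω l) (A : Over (Spec (CommRingCat.of k))) [GrpObj A] [IsCommMonObj A]

/-- The Galois action on the Tate module. -/
def galT (τ : Ω ≃ₐ[k] Ω) : Module.End ℤ_[l] (AbDual.TateMod A l (SGA7.pt Ω)) :=
  let P : Additive (SGA7.pt Ω ⟶ A) →+ Additive (SGA7.pt Ω ⟶ A) :=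
    AddMonoidHom.mk' (fun a => Additive.ofMul (SGA7.galAct τ a.toMul))
      fun a b => congrArg Additive.ofMul (MonObj.comp_mul (SGA7.specAut τ) a.toMul b.toMul)
  { toFun := fun x => ⟨fun n => P ((x : ℕ → Additive (SGA7.pt Ω ⟶ A)) n),
      fun n => by rw [← map_nsmul, x.torsion n, map_zero], fun n => by rw [← map_nsmul, x.compat n]⟩
    map_add' := fun x y => AbDual.TateMod.ext fun n => map_add P _ _
    map_smul' := fun a x => AbDual.TateMod.ext fun n => map_nsmul P _ _ }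

variable {Ω l A}

theorem eq_galT (ρ : (Ω ≃ₐ[k] Ω) → Module.End ℤ_[l] (AbDual.TateMod A l (SGA7.pt Ω)))
    (hρ : ∀ (τ : Ω ≃ₐ[k] Ω) (z : AbDual.TateMod A l (SGA7.pt Ω)) (m : ℕ),
      (AbDual.TateMod.component A l (SGA7.pt Ω) m (ρ τ z)).toMul =
        SGA7.galAct τ (AbDual.TateMod.component A l (SGA7.pt Ω) m z).toMul) (τ : Ω ≃ₐ[k] Ω) :
    ρ τ = galT Ω l A τ :=
  LinearMap.ext fun z => AbDual.TateMod.ext fun m => Additive.toMul.injective (hρ τ z m)

/-- The Galois action commutes with homomorphisms. -/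
theorem galT_tateMap {B : Over (Spec (CommRingCat.of k))} [GrpObj B] [IsCommMonObj B] (f : A ⟶ B) [IsMonHom f]
    (τ : Ω ≃ₐ[k] Ω) :
    galT Ω l B τ ∘ₗ AbDual.tateMapₗ (l := l) (T := SGA7.pt Ω) f =
      AbDual.tateMapₗ (l := l) (T := SGA7.pt Ω) f ∘ₗ galT Ω l A τ :=
  LinearMap.ext fun z => AbDual.TateMod.ext fun m => congrArg Additive.ofMul
    (Category.assoc (SGA7.specAut τ) ((z : ℕ → Additive (SGA7.pt Ω ⟶ A)) m).toMul f).symm

theorem galT_commute (f : A ⟶ A) [IsMonHom f] (τ : Ω ≃ₐ[k] Ω) :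
    (galT Ω l A τ).baseChange ℚ_[l] * (AbDual.tateMapₗ (l := l) (T := SGA7.pt Ω) f).baseChange ℚ_[l] =
      (AbDual.tateMapₗ (l := l) (T := SGA7.pt Ω) f).baseChange ℚ_[l] * (galT Ω l A τ).baseChange ℚ_[l] := by
  rw [Module.End.mul_eq_comp, Module.End.mul_eq_comp, ← LinearMap.baseChange_comp, ← LinearMap.baseChange_comp,
    galT_tateMap]

end gal

variable {X : Over (Spec (CommRingCat.of k))} [GrpObj X] [IsCommMonObj X] [IsProper X.hom] [GeometricallyIntegral X.hom]

/-- Stable subspaces have stable complements. -/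
theorem exists_complement
    (W : Submodule ℚ_[l] (ℚ_[l] ⊗[ℤ_[l]] AbDual.TateMod X l (SGA7.pt Ω)))
    (hu : ∃ u ∈ Submodule.span ℚ_[l] (ratEnds Ω l X), LinearMap.range u = W) :
    ∃ W' : Submodule ℚ_[l] (ℚ_[l] ⊗[ℤ_[l]] AbDual.TateMod X l (SGA7.pt Ω)),
      IsCompl W W' ∧ ∀ τ : Ω ≃ₐ[k] Ω, W'.map ((galT Ω l X τ).baseChange ℚ_[l]) ≤ W' := by
  obtain ⟨R, hR, hspan⟩ := exists_semisimple Ω l X
  obtain ⟨u, hu, rfl⟩ := hu
  rw [← hspan] at hu
  let u' : R := ⟨u, hu⟩
  obtain ⟨e, he, hI⟩ := IsSemisimpleRing.ideal_eq_span_idempotent (Ideal.span ({u'} : Set R))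
  obtain ⟨y, hy⟩ : ∃ y, y * u' = e :=
    Ideal.mem_span_singleton'.1 (hI.ge (Ideal.mem_span_singleton_self e))
  obtain ⟨z, hz⟩ : ∃ z, z * e = u' :=
    Ideal.mem_span_singleton'.1 (hI.le (Ideal.mem_span_singleton_self u'))
  have huyu : u' * y * u' = u' := by rw [_root_.mul_assoc, hy, ← hz, _root_.mul_assoc, he.eq]
  let p : Module.End ℚ_[l] (ℚ_[l] ⊗[ℤ_[l]] AbDual.TateMod X l (SGA7.pt Ω)) := u * y.1
  have hpu : p * u = u := congrArg Subtype.val huyu
  have hp : IsIdempotentElem p := by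
    show p * p = p
    rw [show p * p = p * u * y.1 from (_root_.mul_assoc p u y.1).symm, hpu]
  have hrange : LinearMap.range p = LinearMap.range u := by
    refine le_antisymm (LinearMap.range_comp_le_range _ _) ?_
    conv_lhs => rw [← hpu]
    exact LinearMap.range_comp_le_range _ _
  refine ⟨LinearMap.ker p, hrange ▸ LinearMap.IsIdempotentElem.isCompl hp, fun τ => ?_⟩
  have hcomm : ∀ r ∈ Submodule.span ℚ_[l] (ratEnds Ω l X),
      (galT Ω l X τ).baseChange ℚ_[l] * r = r * (galT Ω l X τ).baseChange ℚ_[l] := fun r hr => by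
    induction hr using Submodule.span_induction with
    | mem r hr =>
      obtain ⟨f, hf, rfl⟩ := hr
      exact galT_commute f τ
    | zero => rw [MulZeroClass.mul_zero, MulZeroClass.zero_mul]
    | add a b _ _ ha hb => rw [_root_.mul_add, _root_.add_mul, ha, hb]
    | smul c a _ ha => rw [mul_smul_comm, smul_mul_assoc, ha]
  have hpG : (galT Ω l X τ).baseChange ℚ_[l] * p = p * (galT Ω l X τ).baseChange ℚ_[l] :=
    hcomm p (hspan ▸ (u' * y).2)
  rintro _ ⟨v, hv, rfl⟩
  rw [SetLike.mem_coe, LinearMap.mem_ker] at hv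
  rw [LinearMap.mem_ker, ← Module.End.mul_apply, ← hpG, Module.End.mul_apply, hv, map_zero]

variable [IsAlgClosure k Ω] [Module.Free ℤ_[l] (AbDual.TateMod X l (SGA7.pt Ω))]
  [Module.Finite ℤ_[l] (AbDual.TateMod X l (SGA7.pt Ω))]

/-- An endomorphism commuting with Galois commutes with the commutant of the endomorphisms. -/
theorem commute_of_finiteness
    (hFin : ∀ (Z : Over (Spec (CommRingCat.of k))) [GrpObj Z] [IsCommMonObj Z] [IsProper Z.hom] [GeometricallyIntegral Z.hom],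
      ∃ (J : Type u) (_ : Finite J) (F : J → Over (Spec (CommRingCat.of k))),
        ∀ (Y : Over (Spec (CommRingCat.of k))) [GrpObj Y] [IsCommMonObj Y] [IsProper Y.hom] [GeometricallyIntegral Y.hom]
          (u : Z ⟶ Y) [IsMonHom u] (v : Y ⟶ Z) [IsMonHom v] (m : ℕ),
          u ≫ v = (𝟙 Z) ^ (l ^ m) → v ≫ u = (𝟙 Y) ^ (l ^ m) → ∃ i, Nonempty (Y ≅ F i))
    (φ : Module.End ℚ_[l] (ℚ_[l] ⊗[ℤ_[l]] AbDual.TateMod X l (SGA7.pt Ω)))
    (hφ : ∀ τ : Ω ≃ₐ[k] Ω, φ ∘ₗ (galT Ω l X τ).baseChange ℚ_[l] = (galT Ω l X τ).baseChange ℚ_[l] ∘ₗ φ)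
    (c : Module.End ℚ_[l] (ℚ_[l] ⊗[ℤ_[l]] AbDual.TateMod X l (SGA7.pt Ω)))
    (hc : ∀ r ∈ ratEnds Ω l X, c * r = r * c) : φ * c = c * φ := by
  haveI : IsProper (X ⊗ X).hom := by
    rw [Over.tensorObj_hom]
    haveI : IsProper (pullback.fst X.hom X.hom) := MorphismProperty.pullback_fst (P := @IsProper) _ _ inferInstance
    infer_instance
  haveI : GeometricallyIntegral (X ⊗ X).hom := H25Rig.geometricallyIntegral_tensor X X
  haveI : IsCommMonObj (X ⊗ X) := isCommMonObj_of_av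
  let i₁ : X ⟶ X ⊗ X := lift (𝟙 X) 1
  let i₂ : X ⟶ X ⊗ X := lift 1 (𝟙 X)
  haveI : IsMonHom i₁ := H25Rig.isMonHom_of_one_hom _ (by
    apply CartesianMonoidalCategory.hom_ext <;>
      simp only [i₁, Category.assoc, lift_fst, lift_snd, Category.comp_id, MonObj.comp_one] <;>
      first
      | exact (IsMonHom.one_hom (fst X X)).symm
      | exact (Hom.one_def.trans (by rw [toUnit_unit, Category.id_comp])).trans (IsMonHom.one_hom (snd X X)).symm)
  haveI : IsMonHom i₂ := H25Rig.isMonHom_of_one_hom _ (by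
    apply CartesianMonoidalCategory.hom_ext <;>
      simp only [i₂, Category.assoc, lift_fst, lift_snd, Category.comp_id, MonObj.comp_one] <;>
      first
      | exact (IsMonHom.one_hom (snd X X)).symm
      | exact (Hom.one_def.trans (by rw [toUnit_unit, Category.id_comp])).trans (IsMonHom.one_hom (fst X X)).symm)
  let T : ∀ {A B : Over (Spec (CommRingCat.of k))} [GrpObj A] [IsCommMonObj A] [GrpObj B] [IsCommMonObj B]
      (f : A ⟶ B) [IsMonHom f], AbDual.TateMod A l (SGA7.pt Ω) →ₗ[ℤ_[l]] AbDual.TateMod B l (SGA7.pt Ω) :=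
    fun f _ => AbDual.tateMapₗ (l := l) (T := SGA7.pt Ω) f
  have e11 : T (fst X X) ∘ₗ T i₁ = LinearMap.id := LinearMap.ext fun z => AbDual.TateMod.ext fun m =>
    congrArg Additive.ofMul (show (_ ≫ i₁) ≫ fst X X = _ by rw [Category.assoc, lift_fst, Category.comp_id]; rfl)
  have e22 : T (snd X X) ∘ₗ T i₂ = LinearMap.id := LinearMap.ext fun z => AbDual.TateMod.ext fun m =>
    congrArg Additive.ofMul (show (_ ≫ i₂) ≫ snd X X = _ by rw [Category.assoc, lift_snd, Category.comp_id]; rfl)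
  have e12 : T (fst X X) ∘ₗ T i₂ = 0 := LinearMap.ext fun z => AbDual.TateMod.ext fun m =>
    congrArg Additive.ofMul (show (_ ≫ i₂) ≫ fst X X = 1 by rw [Category.assoc, lift_fst, MonObj.comp_one])
  have e21 : T (snd X X) ∘ₗ T i₁ = 0 := LinearMap.ext fun z => AbDual.TateMod.ext fun m =>
    congrArg Additive.ofMul (show (_ ≫ i₁) ≫ snd X X = 1 by rw [Category.assoc, lift_snd, MonObj.comp_one])
  have esum : T i₁ ∘ₗ T (fst X X) + T i₂ ∘ₗ T (snd X X) = LinearMap.id := LinearMap.ext fun z =>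
    AbDual.TateMod.ext fun m => congrArg Additive.ofMul (show ((_ ≫ fst X X) ≫ i₁) * ((_ ≫ snd X X) ≫ i₂) = _ by
      rw [Category.assoc, Category.assoc, ← MonObj.comp_mul]
      refine (congrArg (_ ≫ ·) ?_).trans (Category.comp_id _)
      apply CartesianMonoidalCategory.hom_ext
      · rw [MonObj.mul_comp, Category.assoc, Category.assoc, lift_fst, lift_fst, Category.comp_id, MonObj.comp_one,
          _root_.mul_one, Category.id_comp]
      · rw [MonObj.mul_comp, Category.assoc, Category.assoc, lift_snd, lift_snd, Category.comp_id, MonObj.comp_one,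
          _root_.one_mul, Category.id_comp])
  let θ : AbDual.TateMod (X ⊗ X) l (SGA7.pt Ω) ≃ₗ[ℤ_[l]]
      AbDual.TateMod X l (SGA7.pt Ω) × AbDual.TateMod X l (SGA7.pt Ω) :=
    LinearEquiv.ofLinear ((T (fst X X)).prod (T (snd X X))) ((T i₁).coprod (T i₂))
      (by
        rw [LinearMap.comp_coprod, LinearMap.prod_comp, LinearMap.prod_comp, e11, e21, e12, e22]
        exact LinearMap.ext fun p => by simp)
      (by rw [LinearMap.coprod_comp_prod, esum])
  haveI : Module.Free ℤ_[l] (AbDual.TateMod (X ⊗ X) l (SGA7.pt Ω)) := Module.Free.of_equiv θ.symm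
  haveI : Module.Finite ℤ_[l] (AbDual.TateMod (X ⊗ X) l (SGA7.pt Ω)) := Module.Finite.equiv θ.symm
  let P₁ := (T (fst X X)).baseChange ℚ_[l]
  let P₂ := (T (snd X X)).baseChange ℚ_[l]
  let I₁ := (T i₁).baseChange ℚ_[l]
  let I₂ := (T i₂).baseChange ℚ_[l]
  have p11 : ∀ x, P₁ (I₁ x) = x := fun x => by
    rw [← LinearMap.comp_apply, ← LinearMap.baseChange_comp, e11, LinearMap.baseChange_id]; rfl
  have p22 : ∀ x, P₂ (I₂ x) = x := fun x => by
    rw [← LinearMap.comp_apply, ← LinearMap.baseChange_comp, e22, LinearMap.baseChange_id]; rfl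
  have p12 : ∀ x, P₁ (I₂ x) = 0 := fun x => by
    rw [← LinearMap.comp_apply, ← LinearMap.baseChange_comp, e12, LinearMap.baseChange_zero]; rfl
  have p21 : ∀ x, P₂ (I₁ x) = 0 := fun x => by
    rw [← LinearMap.comp_apply, ← LinearMap.baseChange_comp, e21, LinearMap.baseChange_zero]; rfl
  have psum : ∀ x, I₁ (P₁ x) + I₂ (P₂ x) = x := fun x => by
    rw [← LinearMap.comp_apply I₁, ← LinearMap.comp_apply I₂, ← LinearMap.baseChange_comp, ← LinearMap.baseChange_comp,
      ← LinearMap.add_apply, ← LinearMap.baseChange_add, esum, LinearMap.baseChange_id]; rfl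
  let J := I₁ + I₂ ∘ₗ φ
  obtain ⟨u, hu, hrange⟩ := exists_range_eq l (hFin (X ⊗ X)) (galT Ω l (X ⊗ X)) (fun _ _ _ => rfl)
    (LinearMap.range J) (fun τ => by
      rintro _ ⟨_, ⟨x, rfl⟩, rfl⟩
      refine ⟨(galT Ω l X τ).baseChange ℚ_[l] x, ?_⟩
      have n1 : ∀ y, (galT Ω l (X ⊗ X) τ).baseChange ℚ_[l] (I₁ y) = I₁ ((galT Ω l X τ).baseChange ℚ_[l] y) := fun y => by
        rw [← LinearMap.comp_apply, ← LinearMap.baseChange_comp, galT_tateMap, LinearMap.baseChange_comp]; rfl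
      have n2 : ∀ y, (galT Ω l (X ⊗ X) τ).baseChange ℚ_[l] (I₂ y) = I₂ ((galT Ω l X τ).baseChange ℚ_[l] y) := fun y => by
        rw [← LinearMap.comp_apply, ← LinearMap.baseChange_comp, galT_tateMap, LinearMap.baseChange_comp]; rfl
      show I₁ _ + I₂ (φ _) = _
      rw [show φ ((galT Ω l X τ).baseChange ℚ_[l] x) = (galT Ω l X τ).baseChange ℚ_[l] (φ x) from congr($(hφ τ) x)]
      show _ = (galT Ω l (X ⊗ X) τ).baseChange ℚ_[l] (I₁ x + I₂ (φ x))
      rw [map_add, n1, n2])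
  let C := I₁ ∘ₗ c ∘ₗ P₁ + I₂ ∘ₗ c ∘ₗ P₂
  have hC : ∀ r ∈ Submodule.span ℚ_[l] (ratEnds Ω l (X ⊗ X)), ∀ x, C (r x) = r (C x) := fun r hr => by
    induction hr using Submodule.span_induction with
    | mem r hr =>
      obtain ⟨f, hf, rfl⟩ := hr
      have key : ∀ {Z : Over (Spec (CommRingCat.of k))} (a : Z ⟶ X ⊗ X) (b : X ⊗ X ⟶ X) [GrpObj Z] [IsCommMonObj Z]
          [IsMonHom a] [IsMonHom b] (x : ℚ_[l] ⊗[ℤ_[l]] AbDual.TateMod Z l (SGA7.pt Ω)),
          (T b).baseChange ℚ_[l] ((T f).baseChange ℚ_[l] ((T a).baseChange ℚ_[l] x)) =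
            (T (a ≫ f ≫ b)).baseChange ℚ_[l] x := by
        intro Z a b _ _ _ _ x
        rw [← LinearMap.comp_apply, ← LinearMap.comp_apply, ← LinearMap.baseChange_comp, ← LinearMap.baseChange_comp]
        congr 2
      have hcf : ∀ (g : X ⟶ X) [IsMonHom g] y, c ((T g).baseChange ℚ_[l] y) = (T g).baseChange ℚ_[l] (c y) :=
        fun g _ y => congr($(hc _ ⟨g, inferInstance, rfl⟩) y)
      intro x
      show C ((T f).baseChange ℚ_[l] x) = (T f).baseChange ℚ_[l] (C x)
      have b1 : P₁ ((T f).baseChange ℚ_[l] (C x)) = c (P₁ ((T f).baseChange ℚ_[l] x)) := by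
        conv_rhs => rw [← psum x]
        show P₁ ((T f).baseChange ℚ_[l] (I₁ (c (P₁ x)) + I₂ (c (P₂ x)))) = _
        simp only [map_add]
        rw [key i₁ (fst X X), key i₂ (fst X X), key i₁ (fst X X), key i₂ (fst X X), hcf, hcf]
      have b2 : P₂ ((T f).baseChange ℚ_[l] (C x)) = c (P₂ ((T f).baseChange ℚ_[l] x)) := by
        conv_rhs => rw [← psum x]
        show P₂ ((T f).baseChange ℚ_[l] (I₁ (c (P₁ x)) + I₂ (c (P₂ x)))) = _
        simp only [map_add]
        rw [key i₁ (snd X X), key i₂ (snd X X), key i₁ (snd X X), key i₂ (snd X X), hcf, hcf]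
      conv_rhs => rw [← psum ((T f).baseChange ℚ_[l] (C x)), b1, b2]
      rfl
    | zero => intro x; exact map_zero C
    | add a b _ _ ha hb => intro x; exact (C.map_add (a x) (b x)).trans (congrArg₂ (· + ·) (ha x) (hb x))
    | smul t a _ ha => intro x; exact (C.map_smul t (a x)).trans (congrArg (t • ·) (ha x))
  refine LinearMap.ext fun x => ?_
  obtain ⟨y, hy⟩ : J x ∈ LinearMap.range u := hrange.symm ▸ LinearMap.mem_range_self J x
  obtain ⟨x', hx'⟩ : C (J x) ∈ LinearMap.range J := by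
    rw [← hrange, ← hy, hC u hu y]
    exact LinearMap.mem_range_self u _
  have hP : ∀ z, P₁ (J z) = z ∧ P₂ (J z) = φ z := fun z => by
    constructor
    · show P₁ (I₁ z + I₂ (φ z)) = z
      rw [map_add, p11, p12, _root_.add_zero]
    · show P₂ (I₁ z + I₂ (φ z)) = φ z
      rw [map_add, p21, p22, _root_.zero_add]
  have hCJ : C (J x) = I₁ (c x) + I₂ (c (φ x)) := by
    show I₁ (c (P₁ (J x))) + I₂ (c (P₂ (J x))) = _
    rw [(hP x).1, (hP x).2]
  have q1 : x' = c x := by
    have h := congrArg P₁ (hx'.trans hCJ)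
    rwa [(hP x').1, map_add, p11, p12, _root_.add_zero] at h
  have q2 : φ x' = c (φ x) := by
    have h := congrArg P₂ (hx'.trans hCJ)
    rwa [(hP x').2, map_add, p21, p22, _root_.zero_add] at h
  show φ (c x) = c (φ x)
  rw [← q1, q2]

/-- Endomorphisms commuting with Galois are combinations of endomorphisms. -/
theorem mem_span_of_commute
    (hFin : ∀ (Z : Over (Spec (CommRingCat.of k))) [GrpObj Z] [IsCommMonObj Z] [IsProper Z.hom] [GeometricallyIntegral Z.hom],
      ∃ (J : Type u) (_ : Finite J) (F : J → Over (Spec (CommRingCat.of k))),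
        ∀ (Y : Over (Spec (CommRingCat.of k))) [GrpObj Y] [IsCommMonObj Y] [IsProper Y.hom] [GeometricallyIntegral Y.hom]
          (u : Z ⟶ Y) [IsMonHom u] (v : Y ⟶ Z) [IsMonHom v] (m : ℕ),
          u ≫ v = (𝟙 Z) ^ (l ^ m) → v ≫ u = (𝟙 Y) ^ (l ^ m) → ∃ i, Nonempty (Y ≅ F i))
    (φ : Module.End ℚ_[l] (ℚ_[l] ⊗[ℤ_[l]] AbDual.TateMod X l (SGA7.pt Ω)))
    (hφ : ∀ τ : Ω ≃ₐ[k] Ω, φ ∘ₗ (galT Ω l X τ).baseChange ℚ_[l] = (galT Ω l X τ).baseChange ℚ_[l] ∘ₗ φ) :
    φ ∈ Submodule.span ℚ_[l] (ratEnds Ω l X) := by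
  obtain ⟨R, hR, hspan⟩ := exists_semisimple Ω l X
  haveI := hR
  haveI : IsSemisimpleModule R (ℚ_[l] ⊗[ℤ_[l]] AbDual.TateMod X l (SGA7.pt Ω)) := inferInstance
  let V := ℚ_[l] ⊗[ℤ_[l]] AbDual.TateMod X l (SGA7.pt Ω)
  let F : Module.End (Module.End R V) V :=
    { toFun := φ
      map_add' := map_add φ
      map_smul' := fun c x => by
        have hcQ : ∀ (a : ℚ_[l]) (y : V), c (a • y) = a • c y := fun a y => by
          have h := c.map_smul (algebraMap ℚ_[l] R a) y
          exact h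
        let c' : Module.End ℚ_[l] V :=
          { toFun := c
            map_add' := map_add c
            map_smul' := hcQ }
        have hc' : ∀ r ∈ ratEnds Ω l X, c' * r = r * c' := fun r hr => LinearMap.ext fun y =>
          c.map_smul (⟨r, hspan.ge (Submodule.subset_span hr)⟩ : R) y
        exact congr($(commute_of_finiteness hFin φ hφ c' hc') x) }
  obtain ⟨n, b, hb⟩ := Submodule.fg_iff_exists_fin_generating_family.1
    (Module.Finite.fg_top (R := ℚ_[l]) (M := V))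
  classical
  obtain ⟨r, hr⟩ := jacobson_density (R := R) (M := V) F (Finset.univ.image b)
  have he : φ = (r : Module.End ℚ_[l] V) := LinearMap.ext_on_range hb fun i =>
    hr (b i) (Finset.mem_image_of_mem b (Finset.mem_univ i))
  rw [he, ← hspan]
  exact r.2

end Groth.Agent.H25TateConj
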