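import Groth.Agent.H25Chow.IsogPts

/-!
# Subgroup schemes from Galois stable finite groups of geometric points
-/

set_option autoImplicit false
set_option linter.style.haveILetI false
set_option linter.unusedSectionVars false
set_option backward.isDefEq.respectTransparency false
set_option synthInstance.maxHeartbeats 400000
set_option maxHeartbeats 1000000
universe u

open CategoryTheory CategoryTheory.Limits MonoidalCategory CartesianMonoidalCategory MonObj GrpObj AlgebraicGeometry
open Groth.Agent Groth.Agent.H25AbCube Groth.Agent.H25Chow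

noncomputable section

namespace Groth.Agent.H25TateConj

variable {k : Type u} [Field k] {Ω : Type u} [Field Ω] [Algebra k Ω]

/-- The image of a geometric point. -/
abbrev pnt {Q : Over (Spec (CommRingCat.of k))} (x : SGA7.pt Ω ⟶ Q) : Q.left :=
  x.left (IsLocalRing.closedPoint Ω)

/-- Geometric points with the same image are conjugate. -/
theorem exists_galAct [IsAlgClosure k Ω] {Q : Over (Spec (CommRingCat.of k))} (x y : SGA7.pt Ω ⟶ Q)
    (h : pnt x = pnt y) : ∃ σ : Ω ≃ₐ[k] Ω, SGA7.galAct σ x = y := by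
  haveI : Normal k Ω := IsAlgClosure.normal k Ω
  obtain ⟨⟨p, a⟩, ha⟩ := ((Scheme.SpecToEquivOfField Ω Q.left).symm).surjective x.left
  obtain ⟨⟨p', b⟩, hb⟩ := ((Scheme.SpecToEquivOfField Ω Q.left).symm).surjective y.left
  change Spec.map a ≫ Q.left.fromSpecResidueField p = x.left at ha
  change Spec.map b ≫ Q.left.fromSpecResidueField p' = y.left at hb
  have hp : pnt x = p := by
    show x.left _ = p
    rw [← ha]
    exact Scheme.fromSpecResidueField_apply p _
  have hp' : pnt y = p' := by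
    show y.left _ = p'
    rw [← hb]
    exact Scheme.fromSpecResidueField_apply p' _
  obtain rfl : p = p' := hp.symm.trans (h.trans hp')
  let c : CommRingCat.of k ⟶ Q.left.residueField p := Spec.preimage (Q.left.fromSpecResidueField p ≫ Q.hom)
  have hc : Spec.map c = Q.left.fromSpecResidueField p ≫ Q.hom := Spec.map_preimage _
  have hca : c ≫ a = CommRingCat.ofHom (algebraMap k Ω) := Spec.map_injective (by
    rw [Spec.map_comp, hc, ← Category.assoc, ha]
    exact Over.w x)
  have hcb : c ≫ b = CommRingCat.ofHom (algebraMap k Ω) := Spec.map_injective (by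
    rw [Spec.map_comp, hc, ← Category.assoc, hb]
    exact Over.w y)
  letI : Algebra k (Q.left.residueField p) := c.hom.toAlgebra
  let φx : Q.left.residueField p →ₐ[k] Ω :=
    { toRingHom := a.hom
      commutes' := fun r => congr($hca r) }
  let φy : Q.left.residueField p →ₐ[k] Ω :=
    { toRingHom := b.hom
      commutes' := fun r => congr($hcb r) }
  let E : IntermediateField k Ω := φx.fieldRange
  let χE : E →ₐ[k] Ω := φy.comp (AlgEquiv.ofInjectiveField φx).symm.toAlgHom
  let L : Ω →ₐ[k] Ω := χE.liftNormal Ω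
  have hL : ∀ z, L (φx z) = φy z := fun z => by
    have h1 := χE.liftNormal_commutes Ω ((AlgEquiv.ofInjectiveField φx) z)
    have h2 : χE ((AlgEquiv.ofInjectiveField φx) z) = φy z :=
      congrArg φy ((AlgEquiv.ofInjectiveField φx).symm_apply_apply z)
    exact h1.trans h2
  let σ : Ω ≃ₐ[k] Ω := AlgEquiv.ofBijective L (Algebra.IsAlgebraic.algHom_bijective L)
  refine ⟨σ, Over.OverMorphism.ext ?_⟩
  show Spec.map (CommRingCat.ofHom (σ : Ω →+* Ω)) ≫ x.left = y.left
  rw [← ha, ← hb, ← Category.assoc, ← Spec.map_comp]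
  congr 2
  exact CommRingCat.hom_ext (RingHom.ext hL)

/-- Every point of a finite scheme is the image of a geometric point. -/
theorem exists_pnt_eq [IsAlgClosed Ω] (Q : Over (Spec (CommRingCat.of k))) [IsFinite Q.hom] (q : Q.left) :
    ∃ x : SGA7.pt Ω ⟶ Q, pnt x = q := by
  obtain ⟨L, _, _, _, z, hz⟩ := exists_residue_point Q q
  let f : L →ₐ[k] Ω := IsAlgClosed.lift
  let w : SGA7.pt Ω ⟶ specOver k L := Over.homMk (Spec.map (CommRingCat.ofHom f.toRingHom)) (by
    show Spec.map _ ≫ Spec.map _ = Spec.map _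
    rw [← Spec.map_comp, ← CommRingCat.ofHom_comp]
    exact congrArg (fun g => Spec.map (CommRingCat.ofHom g)) f.comp_algebraMap)
  refine ⟨w ≫ z, ?_⟩
  have h : z.left (w.left (IsLocalRing.closedPoint Ω)) ∈ Set.range z.left := ⟨_, rfl⟩
  rw [hz] at h
  exact h

/-- A Galois stable finite group of geometric points killed by a positive integer is the group of
geometric points of a finite subgroup scheme. -/
theorem exists_subgroup [IsAlgClosure k Ω] {X : Over (Spec (CommRingCat.of k))} [GrpObj X] [IsCommMonObj X]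
    [IsProper X.hom] [GeometricallyIntegral X.hom] {n : ℕ} (hn : 0 < n) (G : Subgroup (SGA7.pt Ω ⟶ X))
    (hG : ∀ a ∈ G, a ^ n = 1) (hGal : ∀ (σ : Ω ≃ₐ[k] Ω), ∀ a ∈ G, SGA7.galAct σ a ∈ G) :
    ∃ (K : Over (Spec (CommRingCat.of k))) (_ : GrpObj K) (j : K ⟶ X), IsMonHom j ∧ IsClosedImmersion j.left ∧
      IsFinite K.hom ∧ (∀ a, (∃ z, z ≫ j = a) ↔ a ∈ G) ∧
      ∀ (T : Over (Spec (CommRingCat.of k))) (t : T ⟶ K), (t ≫ j) ^ n = 1 := by
  haveI : IsAlgClosed Ω := IsAlgClosure.isAlgClosed k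
  haveI : IsMonHom ((𝟙 X) ^ n : X ⟶ X) := isMonHom_pow n
  haveI : IsFinite ((𝟙 X) ^ n : X ⟶ X).left := isFinite_pow hn
  obtain ⟨N, gN, i, hi, hic, hker⟩ := H19Grp.AffineQuotient.exists_kernel ((𝟙 X) ^ n : X ⟶ X)
  haveI := hi; haveI := hic
  haveI : IsFinite N.hom := isFinite_kernel _ hker
  obtain ⟨-, hd⟩ := H25Chow.discreteTopology_of_finite N
  haveI := hd
  let U : N.left.Opens := ⟨{q | ∃ z : SGA7.pt Ω ⟶ N, z ≫ i ∈ G ∧ pnt z = q}, isOpen_discrete _⟩
  let K : Over (Spec (CommRingCat.of k)) := Over.mk (U.ι ≫ N.hom)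
  let e : K ⟶ N := Over.homMk U.ι rfl
  haveI : IsClosedImmersion e.left := IsClosedImmersion.of_isPreimmersion U.ι (by
    rw [Scheme.Opens.range_ι]
    exact isClosed_discrete _)
  haveI : IsOpenImmersion e.left := inferInstanceAs (IsOpenImmersion U.ι)
  haveI : IsFinite K.hom := by rw [← Over.w e]; infer_instance
  let j : K ⟶ X := e ≫ i
  haveI : IsClosedImmersion j.left := by
    show IsClosedImmersion (e.left ≫ i.left)
    infer_instance
  haveI : Mono j := Over.mono_of_mono_left j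
  have hpow : ∀ (T : Over (Spec (CommRingCat.of k))) (t : T ⟶ N), (t ≫ i) ^ n = 1 := fun T t => by
    have h := congrArg (t ≫ ·) (H19Grp.kernel_comp_eq_one hker)
    simp only [MonObj.comp_pow, Category.comp_id, MonObj.comp_one] at h
    exact h
  -- a morphism to the kernel whose points lie in `U` factors
  have hfac : ∀ (T : Over (Spec (CommRingCat.of k))) [IsFinite T.hom] (f : T ⟶ X), f ^ n = 1 →
      (∀ z : SGA7.pt Ω ⟶ T, z ≫ f ∈ G) → ∃ w, w ≫ j = f := fun T _ f hf hz => by
    obtain ⟨m, hm⟩ := H19Grp.exists_kernel_div ((𝟙 X) ^ n : X ⟶ X) hker f 1 (by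
      rw [MonObj.comp_pow, Category.comp_id, hf, MonObj.one_comp])
    rw [div_one] at hm
    have hsub : Set.range m.left ⊆ Set.range e.left := by
      rintro _ ⟨q, rfl⟩
      obtain ⟨z, rfl⟩ := exists_pnt_eq (Ω := Ω) T q
      show _ ∈ Set.range U.ι
      rw [Scheme.Opens.range_ι]
      exact ⟨z ≫ m, by rw [Category.assoc, hm]; exact hz z, rfl⟩
    refine ⟨Over.homMk (IsOpenImmersion.lift e.left m.left hsub) (by
      rw [← Over.w e, IsOpenImmersion.lift_fac_assoc, Over.w]), ?_⟩
    rw [← hm, show j = e ≫ i from rfl, ← Category.assoc]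
    exact congrArg (· ≫ i) (Over.OverMorphism.ext (IsOpenImmersion.lift_fac _ _ _))
  have hKG : ∀ z : SGA7.pt Ω ⟶ K, z ≫ j ∈ G := fun z => by
    have h1 : pnt (z ≫ e) ∈ U := by
      have := Set.mem_range_self (f := e.left) (pnt z)
      rwa [show Set.range e.left = (U : Set N.left) from Scheme.Opens.range_ι U] at this
    obtain ⟨z₀, hz₀, hp⟩ := h1
    obtain ⟨σ, hσ⟩ := exists_galAct z₀ (z ≫ e) hp
    rw [show z ≫ j = SGA7.galAct σ (z₀ ≫ i) from ?_]
    · exact hGal σ _ hz₀
    · show z ≫ e ≫ i = _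
      rw [← Category.assoc, ← hσ, SGA7.galAct, SGA7.galAct, Category.assoc]
  have hpt : ∀ a, (∃ z, z ≫ j = a) ↔ a ∈ G := fun a => by
    refine ⟨fun ⟨z, hz⟩ => hz ▸ hKG z, fun ha => ?_⟩
    haveI : IsAffine (SGA7.pt Ω : Over (Spec (CommRingCat.of k))).left := inferInstanceAs (IsAffine (Spec _))
    obtain ⟨m, hm⟩ := H19Grp.exists_kernel_div ((𝟙 X) ^ n : X ⟶ X) hker a 1 (by
      rw [MonObj.comp_pow, Category.comp_id, hG a ha, MonObj.one_comp])
    rw [div_one] at hm
    have hsub : Set.range m.left ⊆ Set.range e.left := by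
      rintro _ ⟨q, rfl⟩
      show _ ∈ Set.range U.ι
      rw [Scheme.Opens.range_ι, show q = IsLocalRing.closedPoint Ω from Subsingleton.elim (α := PrimeSpectrum Ω) _ _]
      exact ⟨m, hm.symm ▸ ha, rfl⟩
    refine ⟨Over.homMk (IsOpenImmersion.lift e.left m.left hsub) (by
      rw [← Over.w e, IsOpenImmersion.lift_fac_assoc, Over.w]), ?_⟩
    rw [← hm, show j = e ≫ i from rfl, ← Category.assoc]
    exact congrArg (· ≫ i) (Over.OverMorphism.ext (IsOpenImmersion.lift_fac _ _ _))
  have hone : ∃ z, z ≫ j = (1 : 𝟙_ (Over (Spec (CommRingCat.of k))) ⟶ X) := by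
    haveI : IsFinite (𝟙_ (Over (Spec (CommRingCat.of k)))).hom := inferInstanceAs (IsFinite (𝟙 _))
    exact hfac _ 1 (one_pow n) fun z => by rw [MonObj.comp_one]; exact G.one_mem
  have hfin2 : IsFinite (K ⊗ K).hom := by
    rw [Over.tensorObj_hom]
    haveI : IsFinite (pullback.fst K.hom K.hom) :=
      MorphismProperty.pullback_fst (P := @IsFinite) _ _ inferInstance
    infer_instance
  haveI := hfin2
  obtain ⟨m, hm⟩ := hfac (K ⊗ K) ((fst K K ≫ j) * (snd K K ≫ j))
    (by rw [mul_pow, ← Category.assoc, ← Category.assoc, hpow, hpow, _root_.one_mul])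
    fun z => by
      rw [MonObj.comp_mul]
      exact G.mul_mem ((Category.assoc z (fst K K) j) ▸ hKG (z ≫ fst K K))
        ((Category.assoc z (snd K K) j) ▸ hKG (z ≫ snd K K))
  obtain ⟨v, hv⟩ := hfac K (j⁻¹) (by rw [inv_pow, show j ^ n = (e ≫ i) ^ n from rfl, hpow, inv_one])
    fun z => by rw [GrpObj.comp_inv]; exact G.inv_mem (hKG z)
  obtain ⟨gK, hj⟩ := H19Grp.exists_grpObj_of_closed j hone
    (fun T a b => ⟨lift a b ≫ m, by
      rw [Category.assoc, hm, MonObj.comp_mul, lift_fst_assoc, lift_snd_assoc]⟩)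
    (fun T a => ⟨a ≫ v, by rw [Category.assoc, hv, GrpObj.comp_inv]⟩)
  exact ⟨K, gK, j, hj, inferInstance, inferInstance, hpt, fun T t => by
    show (t ≫ e ≫ i) ^ n = 1
    rw [← Category.assoc]; exact hpow T _⟩

end Groth.Agent.H25TateConj
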